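import Mathlib

set_option autoImplicit false

namespace Cfsg.Agent.Lib.Helper5.OrthoFam

open Module

variable {F V : Type*} [Field F] [AddCommGroup V] [Module F V] {σ : F →+* F}

/-- orthogonal family of anisotropic vectors -/
structure IsOF (B : V →ₛₗ[σ] V →ₗ[F] F) {k : ℕ} (c : Fin k → V) : Prop where
  ortho : ∀ i j, i ≠ j → B (c i) (c j) = 0
  ne : ∀ i, B (c i) (c i) ≠ 0

variable {B : V →ₛₗ[σ] V →ₗ[F] F}

/-- projection on the span of an orthogonal family -/
noncomputable def pr (B : V →ₛₗ[σ] V →ₗ[F] F) {k : ℕ} (c : Fin k → V) (y : V) : V :=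
  ∑ i, ((B (c i) (c i))⁻¹ * B (c i) y) • c i

theorem B_sub_pr {k : ℕ} {c : Fin k → V} (h : IsOF B c) (y : V) (j : Fin k) :
    B (c j) (y - pr B c y) = 0 := by
  classical
  unfold pr
  rw [map_sub, map_sum, Finset.sum_eq_single j]
  · rw [map_smul, smul_eq_mul, mul_comm, ← mul_assoc, mul_inv_cancel₀ (h.ne j), one_mul, sub_self]
  · intro i _ hij
    rw [map_smul, h.ortho j i (Ne.symm hij), smul_zero]
  · intro hj
    exact absurd (Finset.mem_univ j) hj

theorem pr_mem_span {k : ℕ} (c : Fin k → V) (y : V) :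
    pr B c y ∈ Submodule.span F (Set.range c) := by
  unfold pr
  apply Submodule.sum_mem
  intro i _
  exact Submodule.smul_mem _ _ (Submodule.subset_span ⟨i, rfl⟩)

theorem IsOF.linearIndependent {k : ℕ} {c : Fin k → V} (h : IsOF B c) : LinearIndependent F c := by
  classical
  rw [Fintype.linearIndependent_iff]
  intro g hg j
  have h1 := congrArg (fun v => B (c j) v) hg
  simp only [map_sum, map_smul, map_zero] at h1
  rw [Finset.sum_eq_single j] at h1
  · exact (mul_eq_zero.mp h1).resolve_right (h.ne j)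
  · intro i _ hij
    rw [h.ortho j i (Ne.symm hij), smul_zero]
  · intro hj
    exact absurd (Finset.mem_univ j) hj

theorem swap_zero (hS : B.IsSymm) {x y : V} (h : B x y = 0) : B y x = 0 := by
  rw [← (LinearMap.isSymm_def.mp hS) x y, h, map_zero]

theorem IsOF.snoc (hS : B.IsSymm) {k : ℕ} {c : Fin k → V} (h : IsOF B c) (w : V)
    (hw : ∀ i, B (c i) w = 0) (hww : B w w ≠ 0) : IsOF B (Fin.snoc c w : Fin (k + 1) → V) := by
  constructor
  · intro i j
    refine Fin.lastCases ?_ (fun i => ?_) i <;> refine Fin.lastCases ?_ (fun j => ?_) j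
    · intro h; exact absurd rfl h
    · intro _; simpa using swap_zero hS (hw j)
    · intro _; simpa using hw i
    · intro hij
      simpa using h.ortho i j (fun h' => hij (by rw [h']))
  · intro i
    refine Fin.lastCases ?_ (fun i => ?_) i
    · simpa using hww
    · simpa using h.ne i

theorem exists_aniso [FiniteDimensional F V] (hS : B.IsSymm) (hB : B.Nondegenerate)
    (hpol : ∀ W : Submodule F V, (∀ w ∈ W, B w w = 0) → ∀ x ∈ W, ∀ y ∈ W, B x y = 0)
    {k : ℕ} {c : Fin k → V} (h : IsOF B c) (hk : k < finrank F V) :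
    ∃ w, (∀ i, B (c i) w = 0) ∧ B w w ≠ 0 := by
  classical
  by_contra hcon
  push Not at hcon
  let W : Submodule F V := ⨅ i, LinearMap.ker (B (c i))
  have hW : ∀ x, x ∈ W ↔ ∀ i, B (c i) x = 0 := by
    intro x
    simp [W, Submodule.mem_iInf]
  have hiso := hpol W (fun w hw => hcon w ((hW w).mp hw))
  obtain ⟨y0, hy0⟩ : ∃ y0 : V, y0 ∉ Submodule.span F (Set.range c) := by
    by_contra hall
    push Not at hall
    have htop : Submodule.span F (Set.range c) = ⊤ := by
      rw [eq_top_iff]; intro x _; exact hall x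
    have h1 := finrank_span_eq_card h.linearIndependent
    rw [htop, finrank_top, Fintype.card_fin] at h1
    omega
  have hxW : y0 - pr B c y0 ∈ W := (hW _).mpr (B_sub_pr h y0)
  have hx0 : y0 - pr B c y0 = 0 := by
    apply hB.1
    intro z
    have hz : z = (z - pr B c z) + pr B c z := by abel
    rw [hz, map_add, hiso _ hxW _ ((hW _).mpr (B_sub_pr h z)), zero_add]
    have hpz : pr B c z = ∑ i, ((B (c i) (c i))⁻¹ * B (c i) z) • c i := rfl
    rw [hpz, map_sum]
    apply Finset.sum_eq_zero
    intro i _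
    rw [map_smul, swap_zero hS (B_sub_pr h y0 i), smul_zero]
  apply hy0
  rw [sub_eq_zero.mp hx0]
  exact pr_mem_span c y0

/-- a basis from an orthogonal family of full size -/
theorem exists_basis_of_isOF [FiniteDimensional F V] {k : ℕ} {c : Fin k → V} (h : IsOF B c)
    (hk : finrank F V = k) : ∃ b : Basis (Fin k) F V, ∀ i, b i = c i := by
  refine ⟨basisOfLinearIndependentOfCardEqFinrank' c h.linearIndependent (by simp [hk]), ?_⟩
  intro i
  simp

end Cfsg.Agent.Lib.Helper5.OrthoFam
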